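import Mathlib

set_option autoImplicit false
set_option maxHeartbeats 400000

/-!
# Idempotents after a Galois base change
-/

noncomputable section

universe u v

open TensorProduct

namespace Groth.Agent.H98Galois

variable (k : Type u) [Field k] (A : Type v) [CommRing A] [Algebra k A]
  (L : Type u) [Field L] [Algebra k L]

/-- The action of the Galois group on the base change. -/
def ρ (g : L ≃ₐ[k] L) : A ⊗[k] L →ₐ[k] A ⊗[k] L :=
  Algebra.TensorProduct.map (AlgHom.id k A) g.toAlgHom

lemma ρ_one (x : A ⊗[k] L) : ρ k A L 1 x = x := by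
  induction x using TensorProduct.induction_on with
  | zero => simp
  | tmul a l => simp [ρ]
  | add x y hx hy => rw [map_add, hx, hy]

lemma ρ_mul (g h : L ≃ₐ[k] L) (x : A ⊗[k] L) : ρ k A L (g * h) x = ρ k A L g (ρ k A L h x) := by
  induction x using TensorProduct.induction_on with
  | zero => simp
  | tmul a l => simp [ρ]
  | add x y hx hy => rw [map_add, map_add, map_add, hx, hy]

/-- The inclusion of `A`. -/
def incA : A →ₐ[k] A ⊗[k] L := Algebra.TensorProduct.includeLeft

lemma ρ_incA (g : L ≃ₐ[k] L) (a : A) : ρ k A L g (incA k A L a) = incA k A L a := by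
  simp [ρ, incA]

variable [FiniteDimensional k L]

lemma incA_injective : Function.Injective (incA k A L) := by
  intro a b h
  obtain ⟨φ, hφ⟩ : ∃ φ : L →ₗ[k] k, φ 1 = 1 :=
    Module.Projective.exists_dual_ne_zero k (one_ne_zero (α := L)) |>.elim fun φ hφ =>
      ⟨(φ 1)⁻¹ • φ, by simp [hφ]⟩
  have h' := congrArg (fun x => TensorProduct.rid k A (φ.lTensor A x)) h
  simpa [incA, hφ] using h'

/-- The fixed ring is `A`. -/
lemma exists_of_fixed [IsGalois k L] (x : A ⊗[k] L) (hx : ∀ g, ρ k A L g x = x) :
    ∃ a, incA k A L a = x := by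
  classical
  let b := Module.Free.chooseBasis k A
  let e := TensorProduct.equivFinsuppOfBasisLeft (N := L) b
  have he : ∀ (g : L ≃ₐ[k] L) (y : A ⊗[k] L) i, e (ρ k A L g y) i = g (e y i) := fun g y i => by
    induction y using TensorProduct.induction_on with
    | zero => simp
    | tmul a l => simp [ρ, e]
    | add y z hy hz => simp [hy, hz]
  have hfix : ∀ i, ∃ c : k, algebraMap k L c = e x i := fun i => by
    have : e x i ∈ IntermediateField.fixedField (⊤ : Subgroup (L ≃ₐ[k] L)) := fun g => by
      exact (he g x i).symm.trans (by rw [hx])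
    rw [IsGalois.fixedField_top, IntermediateField.mem_bot] at this
    exact this
  choose c hc using hfix
  refine ⟨∑ i ∈ (e x).support, c i • b i, e.injective (Finsupp.ext fun j => ?_)⟩
  have h1 : ∀ i, e (incA k A L (c i • b i)) = Finsupp.single i (e x i) := fun i => by
    rw [← hc i]
    simp [incA, e, Algebra.algebraMap_eq_smul_one, ← TensorProduct.smul_tmul']
  rw [map_sum, map_sum, Finset.sum_congr rfl fun i _ => h1 i, Finsupp.finsetSum_apply]
  simp only [Finsupp.single_apply]
  rw [Finset.sum_ite_eq']
  split_ifs with h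
  · rfl
  · exact (Finsupp.notMem_support_iff.mp h).symm

/-- A connected algebra that acquires idempotents over a Galois extension contains a proper
subextension. -/
theorem exists_algHom_intermediateField [IsGalois k L] [Nontrivial A]
    (hid : ∀ e : A, IsIdempotentElem e → e = 0 ∨ e = 1) (e : A ⊗[k] L) (he : IsIdempotentElem e)
    (he0 : e ≠ 0) (he1 : e ≠ 1) :
    ∃ F : IntermediateField k L, F ≠ ⊥ ∧ Nonempty (F →ₐ[k] A) := by
  classical
  let G := L ≃ₐ[k] L
  let at' : Finset G → A ⊗[k] L := fun S =>
    (∏ g ∈ S, ρ k A L g e) * ∏ g ∈ Finset.univ \ S, (1 - ρ k A L g e)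
  have hsum : ∑ S ∈ (Finset.univ : Finset G).powerset, at' S = 1 := by
    simp only [at']
    rw [← Finset.prod_add]
    simp
  obtain ⟨S, -, hS⟩ : ∃ S ∈ (Finset.univ : Finset G).powerset, at' S ≠ 0 := by
    by_contra! h
    rw [Finset.sum_eq_zero h] at hsum
    exact he0 (by rw [← one_mul e, ← hsum, zero_mul])
  let a := at' S
  have hidem : ∀ g, IsIdempotentElem (ρ k A L g e) := fun g => he.map _
  have haidem : IsIdempotentElem a := by
    show a * a = a
    simp only [a, at']
    rw [mul_mul_mul_comm, ← Finset.prod_mul_distrib, ← Finset.prod_mul_distrib,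
      Finset.prod_congr rfl fun g _ => (hidem g).eq,
      Finset.prod_congr rfl fun g (_ : g ∈ Finset.univ \ S) => (hidem g).one_sub.eq]
  have hkey : ∀ g, ρ k A L g e * a = if g ∈ S then a else 0 := by
    intro g
    simp only [a, at']
    split_ifs with hg
    · rw [← Finset.mul_prod_erase S _ hg, ← mul_assoc, ← mul_assoc, (hidem g).eq]
    · rw [← Finset.mul_prod_erase (Finset.univ \ S) _
        (Finset.mem_sdiff.mpr ⟨Finset.mem_univ g, hg⟩), mul_left_comm, ← mul_assoc (ρ k A L g e),
        mul_sub, mul_one, (hidem g).eq, sub_self, zero_mul, mul_zero]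
  -- translates of `a` are equal or orthogonal
  have horth : ∀ g : G, ρ k A L g a * a = 0 ∨ ρ k A L g a = a := by
    intro g
    by_cases hSg : ∀ h, g * h ∈ S ↔ h ∈ S
    · refine Or.inr ?_
      simp only [a, at', map_mul, map_prod, map_sub, map_one, ← ρ_mul]
      congr 1
      · exact Finset.prod_bij' (fun h _ => g * h) (fun h _ => g⁻¹ * h)
          (fun h hh => (hSg h).mpr hh) (fun h hh => (hSg _).mp (by simpa using hh))
          (by simp) (by simp) (fun h _ => rfl)
      · exact Finset.prod_bij' (fun h _ => g * h) (fun h _ => g⁻¹ * h)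
          (fun h hh => by simpa [hSg h] using hh)
          (fun h hh => by simpa [← hSg (g⁻¹ * h)] using hh)
          (by simp) (by simp) (fun h _ => rfl)
    · left
      push Not at hSg
      obtain ⟨h, hh⟩ := hSg
      have h2 : ρ k A L (g * h) e * ρ k A L g a = if h ∈ S then ρ k A L g a else 0 := by
        rw [ρ_mul, ← map_mul, hkey]; split_ifs <;> simp
      have h3 := hkey (g * h)
      rcases hh with ⟨h4, h5⟩ | ⟨h4, h5⟩
      · rw [if_neg h5] at h2
        rw [if_pos h4] at h3
        calc ρ k A L g a * a = ρ k A L g a * (ρ k A L (g * h) e * a) := by rw [h3]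
          _ = 0 := by rw [← mul_assoc, mul_comm (ρ k A L g a), h2, zero_mul]
      · rw [if_pos h5] at h2
        rw [if_neg h4] at h3
        rw [← h2, mul_right_comm, h3, zero_mul]
  let H : Subgroup G :=
    { carrier := {g | ρ k A L g a = a}
      one_mem' := ρ_one k A L a
      mul_mem' := fun {g h} hg hh => by
        show ρ k A L (g * h) a = a
        rw [ρ_mul, show ρ k A L h a = a from hh, show ρ k A L g a = a from hg]
      inv_mem' := fun {g} hg => by
        show ρ k A L g⁻¹ a = a
        conv_lhs => rw [← show ρ k A L g a = a from hg, ← ρ_mul, inv_mul_cancel, ρ_one] }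
  let F : IntermediateField k L := IntermediateField.fixedField H
  let ic : F →ₐ[k] A ⊗[k] L := Algebra.TensorProduct.includeRight.comp F.val
  have hic : ∀ h ∈ H, ∀ c : F, ρ k A L h (a * ic c) = a * ic c := by
    intro h hh c
    rw [map_mul, show ρ k A L h a = a from hh]
    congr 1
    show ρ k A L h ((1 : A) ⊗ₜ[k] (c : L)) = (1 : A) ⊗ₜ[k] (c : L)
    simp only [ρ, Algebra.TensorProduct.map_tmul, map_one]
    congr 1
    exact c.2 ⟨h, hh⟩
  let T : F →ₗ[k] A ⊗[k] L :=
    ∑ q : G ⧸ H, ((ρ k A L q.out).toLinearMap.comp (LinearMap.mulLeft k a)).comp ic.toLinearMap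
  have hT : ∀ c : F, T c = ∑ q : G ⧸ H, ρ k A L q.out (a * ic c) := fun c => by
    simp only [T, LinearMap.sum_apply]; rfl
  have hfixed : ∀ (g : G) (c : F), ρ k A L g (T c) = T c := by
    intro g c
    rw [hT, map_sum]
    refine Fintype.sum_equiv (MulAction.toPerm g) _ _ fun q => ?_
    rw [MulAction.toPerm_apply, ← ρ_mul]
    have hm : (g • q).out⁻¹ * (g * q.out) ∈ H := by
      rw [← QuotientGroup.eq, QuotientGroup.out_eq']
      conv_lhs => rw [← QuotientGroup.out_eq' q]
      rfl
    conv_lhs => rw [← mul_inv_cancel_left (g • q).out (g * q.out), ρ_mul, hic _ hm c]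
  have hdiag : ∀ q q' : G ⧸ H, ρ k A L q.out a * ρ k A L q'.out a =
      if q = q' then ρ k A L q.out a else 0 := by
    intro q q'
    split_ifs with h
    · subst h; rw [← map_mul, haidem.eq]
    · have heq : ρ k A L q'.out a = ρ k A L q.out (ρ k A L (q.out⁻¹ * q'.out) a) := by
        rw [← ρ_mul, mul_inv_cancel_left]
      rw [heq, ← map_mul, mul_comm]
      rcases horth (q.out⁻¹ * q'.out) with h' | h'
      · rw [h', map_zero]
      · exfalso
        apply h
        have hm : q.out⁻¹ * q'.out ∈ H := h'
        rwa [← QuotientGroup.eq, QuotientGroup.out_eq', QuotientGroup.out_eq'] at hm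
  have hTmul : ∀ c d : F, T (c * d) = T c * T d := by
    intro c d
    rw [hT, hT, hT, Finset.sum_mul_sum]
    refine Finset.sum_congr rfl fun q _ => ?_
    rw [Finset.sum_eq_single q]
    · rw [← map_mul, mul_mul_mul_comm, haidem.eq, map_mul ic]
    · intro q' _ hne
      rw [map_mul, map_mul (ρ k A L q'.out), mul_mul_mul_comm, hdiag, if_neg (Ne.symm hne), zero_mul]
    · simp
  choose t ht using fun c : F => exists_of_fixed k A L (T c) (fun g => hfixed g c)
  have ht1 : t 1 = 1 := by
    have hi : IsIdempotentElem (t 1) := incA_injective k A L (by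
      rw [map_mul, ht, ← hTmul, mul_one])
    refine (hid _ hi).resolve_left fun h0 => ?_
    have hT1 : T 1 = 0 := by rw [← ht 1, h0, map_zero]
    have : T 1 * ρ k A L (QuotientGroup.mk (1 : G) : G ⧸ H).out a = 0 := by rw [hT1, zero_mul]
    rw [hT, Finset.sum_mul, Finset.sum_eq_single (QuotientGroup.mk (1 : G) : G ⧸ H)] at this
    · simp only [map_one, mul_one, hdiag, if_true] at this
      have h2 := congrArg (ρ k A L (QuotientGroup.mk (1 : G) : G ⧸ H).out⁻¹) this
      rw [← ρ_mul, inv_mul_cancel, ρ_one, map_zero] at h2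
      exact hS h2
    · intro q _ hne
      simp only [map_one, mul_one, hdiag, if_neg hne]
    · simp
  let φ : F →ₐ[k] A := AlgHom.ofLinearMap
    { toFun := t
      map_add' := fun c d => incA_injective k A L (by rw [map_add, ht, ht, ht, map_add])
      map_smul' := fun r c => incA_injective k A L (by
        rw [RingHom.id_apply, map_smul, ht, ht, map_smul]) }
    ht1 (fun c d => incA_injective k A L (by
      show incA k A L (t (c * d)) = incA k A L (t c * t d)
      rw [map_mul, ht, ht, ht, hTmul]))
  refine ⟨F, fun hF => ?_, ⟨φ⟩⟩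
  -- if `F = ⊥` then `a` is fixed, hence `a = 1`
  have hH : H = ⊤ := by
    rw [← IntermediateField.fixingSubgroup_fixedField H, show IntermediateField.fixedField H = ⊥ from hF,
      IntermediateField.fixingSubgroup_bot]
  obtain ⟨a₀, ha₀⟩ := exists_of_fixed k A L a fun g =>
    show g ∈ H by rw [hH]; trivial
  have ha1 : a = 1 := by
    rcases hid a₀ (incA_injective k A L (by rw [map_mul, ha₀, haidem.eq])) with h | h
    · exact absurd (show a = 0 by rw [← ha₀, h, map_zero]) hS
    · rw [← ha₀, h, map_one]
  have := hkey 1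
  rw [ρ_one, ha1, mul_one] at this
  split_ifs at this with h
  · exact he1 this
  · exact he0 this

end Groth.Agent.H98Galois
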