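import Groth.Agent.H98Galois.Descent
import Groth.Agent.FEt83.NormalCover
import Groth.Agent.Crv77.Const
import Groth.Prelude.Def_CurvBase

set_option autoImplicit false
set_option maxHeartbeats 400000
set_option backward.isDefEq.respectTransparency.types false

/-!
# Schemes becoming disconnected over a Galois extension live over a subextension
-/

noncomputable section

universe u

open CategoryTheory Limits AlgebraicGeometry TopologicalSpace Opposite TensorProduct

namespace Groth.Agent.H98Galois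

lemma exists_idempotent_of_not_connected {X : Scheme.{u}} [Nonempty X] (h : ¬ ConnectedSpace X) :
    ∃ e : Γ(X, ⊤), IsIdempotentElem e ∧ e ≠ 0 ∧ e ≠ 1 := by
  have hp : ¬ PreconnectedSpace X := fun _ => h ⟨inferInstance⟩
  rw [preconnectedSpace_iff_clopen] at hp
  push Not at hp
  obtain ⟨s, hs, hs0, hs1⟩ := hp
  let U : Bool → X.Opens := fun b => cond b ⟨s, hs.2⟩ ⟨sᶜ, hs.1.isOpen_compl⟩
  let sf : ∀ b, Γ(X, U b) := fun b => cond b 1 0
  have hcov : ⊤ ≤ iSup U := fun x _ => by
    by_cases hx : x ∈ s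
    · exact Opens.mem_iSup.mpr ⟨true, hx⟩
    · exact Opens.mem_iSup.mpr ⟨false, hx⟩
  have hsub : Subsingleton Γ(X, ⊥) := inferInstance
  obtain ⟨e, he, -⟩ := X.sheaf.existsUnique_gluing' U ⊤ (fun b => homOfLE le_top) hcov sf (by
    intro i j
    by_cases hij : i = j
    · subst hij; rfl
    · have : U i ⊓ U j = ⊥ := by
        rcases i with _ | _ <;> rcases j with _ | _ <;> first | exact absurd rfl hij |
          (apply Opens.ext; simp [U])
      have h2 : Subsingleton Γ(X, U i ⊓ U j) := this ▸ hsub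
      exact @Subsingleton.elim _ h2 _ _)
  refine ⟨e, ?_, fun h0 => ?_, fun h1 => ?_⟩
  · refine X.sheaf.eq_of_locally_eq' U ⊤ (fun b => homOfLE le_top) hcov (e * e) e fun b => ?_
    have hr : (X.presheaf.map (homOfLE (le_top : U b ≤ ⊤)).op).hom e = sf b := he b
    show (X.presheaf.map (homOfLE (le_top : U b ≤ ⊤)).op).hom (e * e) =
      (X.presheaf.map (homOfLE (le_top : U b ≤ ⊤)).op).hom e
    refine (RingHom.map_mul _ e e).trans ?_
    have hz : ∀ z : Γ(X, U b), z = sf b → z * z = z := fun z hz => by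
      subst hz; cases b <;> simp [sf]
    exact hz _ hr
  · obtain ⟨x, hx⟩ := hs0
    have h2 := he true
    rw [h0] at h2
    have h3 := congrArg (X.presheaf.germ (U true) x hx) h2
    erw [map_zero, map_zero] at h3
    simp only [sf, cond_true, map_one] at h3
    exact zero_ne_one h3
  · obtain ⟨x, hx⟩ := (Set.ne_univ_iff_exists_notMem s).mp hs1
    have h2 := he false
    rw [h1] at h2
    have h3 := congrArg (X.presheaf.germ (U false) x hx) h2
    erw [map_one, map_one] at h3
    simp only [sf, cond_false, map_zero] at h3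
    exact one_ne_zero h3

variable (k : Type u) [Field k] (X : Scheme.{u}) [X.Over (Spec (CommRingCat.of k))]
  (L : Type u) [Field L] [Algebra k L] [FiniteDimensional k L]

/-- The global functions as an algebra over the field. -/
abbrev algΓ : Algebra k Γ(X, ⊤) := (Crv77.constMap (X ↘ Spec (CommRingCat.of k))).toAlgebra

lemma toSpecΓ_constMap :
    X.toSpecΓ ≫ Spec.map (CommRingCat.ofHom (Crv77.constMap (X ↘ Spec (CommRingCat.of k)))) =
      X ↘ Spec (CommRingCat.of k) := by
  have : CommRingCat.ofHom (Crv77.constMap (X ↘ Spec (CommRingCat.of k))) =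
      (Scheme.ΓSpecIso (CommRingCat.of k)).inv ≫ (X ↘ Spec (CommRingCat.of k)).appTop := rfl
  rw [this, Spec.map_comp, ← Category.assoc, ← Scheme.toSpecΓ_naturality]
  simp

lemma nonempty_ΓbcEquiv [QuasiCompact (X ↘ Spec (CommRingCat.of k))]
    [QuasiSeparated (X ↘ Spec (CommRingCat.of k))] :
    letI := algΓ k X
    Nonempty (Γ(Curv2.bc k X L, ⊤) ≃+* Γ(X, ⊤) ⊗[k] L) := by
  letI := algΓ k X
  haveI : CompactSpace X := QuasiCompact.compactSpace_of_compactSpace (X ↘ Spec (CommRingCat.of k))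
  haveI : QuasiSeparatedSpace X :=
    quasiSeparatedSpace_of_quasiSeparated (X ↘ Spec (CommRingCat.of k))
  have H : IsPullback (Curv2.bcFst k X L) (Curv2.bcSnd k X L) (X ↘ Spec (CommRingCat.of k))
      (Spec.map (CommRingCat.ofHom (algebraMap k L))) := IsPullback.of_hasPullback _ _
  haveI : Flat (Spec.map (CommRingCat.ofHom (algebraMap k L))) := by
    rw [HasRingHomProperty.Spec_iff (P := @Flat)]
    exact RingHom.flat_algebraMap_iff.mpr inferInstance
  have hiso := isIso_pushoutSection_of_isQuasiSeparated_of_flat_right H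
    (hUST := show (⊤ : (Spec (CommRingCat.of L)).Opens) ≤ _ ⁻¹ᵁ ⊤ from le_rfl)
    (hUSX := show (⊤ : X.Opens) ≤ _ ⁻¹ᵁ ⊤ from le_rfl)
    (hUY := show (⊤ : (Curv2.bc k X L).Opens) = _ ⁻¹ᵁ ⊤ ⊓ _ ⁻¹ᵁ ⊤ by simp)
    (isAffineOpen_top _) (isAffineOpen_top _) isCompact_univ isQuasiSeparated_univ
  have hpo := (isIso_pushoutSection_iff _ _ _ _).mp hiso
  have hpo' : IsPushout (CommRingCat.ofHom (algebraMap k Γ(X, ⊤))) (CommRingCat.ofHom (algebraMap k L))
      ((Curv2.bcFst k X L).appLE ⊤ ⊤ (by simp))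
      ((Scheme.ΓSpecIso (CommRingCat.of L)).inv ≫ (Curv2.bcSnd k X L).appLE ⊤ ⊤ (by simp)) := by
    refine hpo.of_iso (Scheme.ΓSpecIso (CommRingCat.of k)) (Iso.refl _)
      (Scheme.ΓSpecIso (CommRingCat.of L)) (Iso.refl _) ?_ ?_ ?_ ?_
    · ext x
      show _ = Crv77.constMap (X ↘ Spec (CommRingCat.of k))
        ((Scheme.ΓSpecIso (CommRingCat.of k)).hom x)
      simp [Crv77.constMap, Scheme.Hom.appLE, Scheme.Hom.appTop]
    · refine Eq.trans ?_ (Scheme.ΓSpecIso_naturality _)
      simp [Scheme.Hom.appLE, Scheme.Hom.appTop]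
    · simp
    · simp
  exact ⟨(hpo'.isoIsPushout _ _ (CommRingCat.isPushout_tensorProduct k Γ(X, ⊤) L)).commRingCatIsoToRingEquiv⟩

/-- If the base change to a Galois extension is disconnected, the scheme lives over a proper
subextension. -/
theorem exists_factor_of_not_connected [IsGalois k L] [ConnectedSpace X]
    [QuasiCompact (X ↘ Spec (CommRingCat.of k))] [QuasiSeparated (X ↘ Spec (CommRingCat.of k))]
    [Nonempty (Curv2.bc k X L)] (h : ¬ ConnectedSpace (Curv2.bc k X L)) :
    ∃ F : IntermediateField k L, F ≠ ⊥ ∧ ∃ g : X ⟶ Spec (CommRingCat.of F),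
      g ≫ Spec.map (CommRingCat.ofHom (algebraMap k F)) = X ↘ Spec (CommRingCat.of k) := by
  letI := algΓ k X
  obtain ⟨Φ⟩ := nonempty_ΓbcEquiv k X L
  obtain ⟨e, he, he0, he1⟩ := exists_idempotent_of_not_connected h
  haveI : Nontrivial Γ(X, ⊤) := by
    refine ⟨0, 1, fun h01 => ?_⟩
    obtain ⟨x⟩ : Nonempty X := inferInstance
    have := congrArg (X.presheaf.germ ⊤ x trivial) h01
    simp at this
  obtain ⟨F, hF, ⟨φ⟩⟩ := exists_algHom_intermediateField k Γ(X, ⊤) L
    (fun a => Crv77.eq_zero_or_one_of_isIdempotentElem) (Φ e) (he.map Φ)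
    (fun h0 => he0 (Φ.injective (by rw [h0, map_zero]))) (fun h1 => he1 (Φ.injective (by rw [h1, map_one])))
  refine ⟨F, hF, X.toSpecΓ ≫ Spec.map (CommRingCat.ofHom φ.toRingHom), ?_⟩
  rw [Category.assoc, ← Spec.map_comp, ← CommRingCat.ofHom_comp,
    show φ.toRingHom.comp (algebraMap k F) = algebraMap k Γ(X, ⊤) from φ.comp_algebraMap]
  exact toSpecΓ_constMap k X

theorem nonempty_bc [Nonempty X] : Nonempty (Curv2.bc k X L) := by
  haveI : Surjective (Spec.map (CommRingCat.ofHom (algebraMap k L))) :=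
    ⟨fun y => ⟨IsLocalRing.closedPoint L, Subsingleton.elim (α := PrimeSpectrum k) _ _⟩⟩
  obtain ⟨x⟩ : Nonempty X := inferInstance
  obtain ⟨z, -⟩ := (inferInstance : Surjective (Curv2.bcFst k X L)).surj x
  exact ⟨z⟩

theorem exists_factor_of_not_irreducible [IsGalois k L] [IrreducibleSpace X]
    (hX : Pi1.IsNormalScheme X) [QuasiCompact (X ↘ Spec (CommRingCat.of k))]
    [QuasiSeparated (X ↘ Spec (CommRingCat.of k))] (h : ¬ IrreducibleSpace (Curv2.bc k X L)) :
    ∃ F : IntermediateField k L, F ≠ ⊥ ∧ ∃ g : X ⟶ Spec (CommRingCat.of F),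
      g ≫ Spec.map (CommRingCat.ofHom (algebraMap k F)) = X ↘ Spec (CommRingCat.of k) := by
  haveI (x : X) : _root_.IsReduced (X.presheaf.stalk x) :=
    have := (hX x).1
    inferInstance
  haveI := isReduced_of_isReduced_stalk X
  haveI : IsIntegral X := isIntegral_of_irreducibleSpace_of_isReduced X
  haveI : ConnectedSpace X := inferInstance
  haveI := nonempty_bc k X L
  refine exists_factor_of_not_connected k X L fun hc => h ?_
  have hfet : FEt.prop (Curv2.bcFst k X L) := by
    refine MorphismProperty.pullback_fst _ _ ⟨?_, ?_⟩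
    · rw [IsFinite.SpecMap_iff]; exact RingHom.finite_algebraMap.mpr inferInstance
    · rw [HasRingHomProperty.Spec_iff (P := @Etale)]
      haveI : Algebra.FormallyEtale k L := Algebra.FormallyEtale.of_isSeparable k L
      haveI : Algebra.Etale k L := ⟨inferInstance, Algebra.FinitePresentation.of_finiteType.mp inferInstance⟩
      exact RingHom.etale_algebraMap.mpr ‹_›
  let Y : FEt.Cat X := MorphismProperty.Over.mk ⊤ (Curv2.bcFst k X L) hfet
  haveI : ConnectedSpace Y.left := hc
  haveI : IsIntegral Y.left := FEt83.isIntegral_cover hX Y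
  exact (inferInstance : IrreducibleSpace Y.left)

end Groth.Agent.H98Galois
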